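/-
Checks of the orbit trees.
-/
import Cfsg.Agent.Lib.Spor.Suz.Act0.Data

namespace CfsgLib.Spor.Suz.Act0

open CfsgLib.Spor.TC

set_option maxRecDepth 100000 in
theorem top_ok : act.levelOK top [] = true := by decide +kernel

noncomputable def parts : List Level := [part0, part1, part2]

set_option maxRecDepth 100000 in
theorem parts_ok : act.orbitsOK parts [0, 1, 2, 3, 4, 5] = true := by decide +kernel

end CfsgLib.Spor.Suz.Act0
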