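/-
The action with its checks.
-/
import Cfsg.Agent.Lib.Spor.Suz.Act0.Orbits
import Cfsg.Agent.Lib.Spor.Suz.C0.All
import Cfsg.Agent.Lib.Spor.Suz.Act0.Range0

namespace CfsgLib.Spor.Suz.Act0

open CfsgLib.Spor.TC

theorem valid : act.Valid relsG :=
  ⟨(range0.append _ range1201), by decide +kernel, by decide +kernel⟩

/-- The action on the cosets. -/
noncomputable def cosetData : act.CosetData relsG [0, 1, 2, 3, 4, 5] :=
  ⟨valid, by decide, CfsgLib.Spor.Suz.C0.cosetCert, top, top_ok, rfl, rfl, parts, parts_ok⟩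

end CfsgLib.Spor.Suz.Act0
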